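import Groth.Agent.RpushLib.AffBaseBC
import Groth.Agent.KFlatLib.AffinePull
import Groth.Agent.CohCmpLib.UnitFibre
import Groth.Agent.GrTildeLib.IsoCrit
import Groth.Prelude.Def_TwSh
import Mathlib.Algebra.DualNumber

/-!
# Infinitesimal automorphisms of the trivial first-order lift of a module
-/

set_option autoImplicit false
set_option linter.style.haveILetI false
set_option linter.unusedSectionVars false
set_option backward.isDefEq.respectTransparency false
set_option backward.isDefEq.respectTransparency.types false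
set_option maxHeartbeats 1000000

universe u

open CategoryTheory CategoryTheory.Limits AlgebraicGeometry TopologicalSpace Opposite
open scoped TensorProduct

noncomputable section

namespace InfAutModLib

/-- Sections of a trivial first-order lift: `M ⊗ (A ⊕ Aε)`. -/
theorem decomp {k A S M T : Type u} [Field k] [CommRing A] [CommRing S] [Algebra k A] [Algebra (DualNumber k) S]
    [Algebra A S] [Algebra k S] [IsScalarTower k A S] [IsScalarTower k (DualNumber k) S]
    [Algebra.IsPushout k A (DualNumber k) S] [AddCommGroup M] [Module A M] [AddCommGroup T] [Module S T]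
    [Module A T] [IsScalarTower A S T] (η : M →ₗ[A] T) (hη : IsBaseChange S η) :
    (∀ t : T, ∃ a b : M, t = η a + algebraMap (DualNumber k) S DualNumber.eps • η b) ∧
      ∀ b : M, algebraMap (DualNumber k) S DualNumber.eps • η b = 0 → b = 0 := by
  set ε := algebraMap (DualNumber k) S DualNumber.eps
  have hbc : IsBaseChange A (IsScalarTower.toAlgHom k (DualNumber k) S).toLinearMap := Algebra.IsPushout.out
  refine ⟨fun t => ?_, ?_⟩
  · have hS : ∀ s : S, ∃ a b : A, s = algebraMap A S a + algebraMap A S b * ε := fun s => by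
      induction s using hbc.inductionOn with
      | zero => exact ⟨0, 0, by simp⟩
      | tmul x =>
        refine ⟨algebraMap k A (TrivSqZeroExt.fst x), algebraMap k A (TrivSqZeroExt.snd x), ?_⟩
        rw [← IsScalarTower.algebraMap_apply, ← IsScalarTower.algebraMap_apply]
        change algebraMap (DualNumber k) S x = _
        rw [IsScalarTower.algebraMap_apply k (DualNumber k) S, IsScalarTower.algebraMap_apply k (DualNumber k) S,
          ← map_mul, ← map_add]
        congr 1
        refine TrivSqZeroExt.ext ?_ ?_ <;> simp [TrivSqZeroExt.algebraMap_eq_inl]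
      | smul c s hs =>
        obtain ⟨a, b, rfl⟩ := hs
        exact ⟨c * a, c * b, by rw [Algebra.smul_def, map_mul, map_mul]; ring⟩
      | add s s' hs hs' =>
        obtain ⟨a, b, rfl⟩ := hs
        obtain ⟨a', b', rfl⟩ := hs'
        exact ⟨a + a', b + b', by rw [map_add, map_add]; ring⟩
    have hε2 : ε * ε = 0 := by rw [← map_mul, DualNumber.eps_mul_eps, map_zero]
    induction t using hη.inductionOn with
    | zero => exact ⟨0, 0, by simp⟩
    | tmul m => exact ⟨m, 0, by simp⟩
    | smul s t ht =>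
      obtain ⟨a, b, rfl⟩ := ht
      obtain ⟨c, c', rfl⟩ := hS s
      refine ⟨c • a, c • b + c' • a, ?_⟩
      simp only [map_add, map_smul, smul_add, add_smul, mul_smul, algebraMap_smul]
      rw [← mul_smul ε ε, hε2, zero_smul, smul_zero, smul_comm ε c (η b), smul_comm ε c' (η a)]
      abel
    | add t t' ht ht' =>
      obtain ⟨a, b, rfl⟩ := ht
      obtain ⟨a', b', rfl⟩ := ht'
      exact ⟨a + a', b + b', by rw [map_add, map_add, smul_add]; abel⟩
  · intro b hb
    let l₀ : DualNumber k →ₗ[k] A := (Algebra.linearMap k A).comp (TrivSqZeroExt.sndHom k k)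
    let l : S →ₗ[A] A := hbc.lift l₀
    let π : S ⊗[A] M →ₗ[A] M := (TensorProduct.lid A M).toLinearMap.comp (LinearMap.rTensor M l)
    have h1 : hη.equiv.symm (ε • η b) = ε ⊗ₜ[A] b := by
      rw [LinearEquiv.symm_apply_eq, hη.equiv_tmul]
    have h2 : l ε = 1 := by
      refine (hbc.lift_eq l₀ DualNumber.eps).trans ?_
      simp [l₀, TrivSqZeroExt.sndHom]
    rw [hb, map_zero] at h1
    have h3 := congrArg π h1.symm
    simpa [π, h2] using h3

variable {k : Type u} [Field k] {X₀ : Scheme.{u}} {x : X₀ ⟶ Spec (CommRingCat.of k)} {E₀ : X₀.Modules}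
  {Xε : Scheme.{u}} {q : Xε ⟶ X₀} {p : Xε ⟶ Spec (CommRingCat.of (DualNumber k))}
  (hsq : IsPullback q p x (Spec.map (CommRingCat.ofHom (algebraMap k (DualNumber k)))))
  {i : X₀ ⟶ Xε} (hiq : i ≫ q = 𝟙 X₀)
  (hip : i ≫ p = x ≫ Spec.map (CommRingCat.ofHom (TrivSqZeroExt.fstHom k k k).toRingHom))

variable (p) in
/-- `ε` as a function. -/
def epsFun : Γ(Xε, ⊤) := Coh.toGlobal p DualNumber.eps

theorem epsFun_mul_self : epsFun p * epsFun p = 0 := by
  unfold epsFun
  refine (map_mul _ _ _).symm.trans ?_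
  rw [DualNumber.eps_mul_eps]
  exact map_zero _

include hip in
theorem appTop_epsFun : i.appTop (epsFun p) = 0 := by
  have e : (Scheme.ΓSpecIso (CommRingCat.of (DualNumber k))).inv ≫ p.appTop ≫ i.appTop =
      CommRingCat.ofHom (TrivSqZeroExt.fstHom k k k).toRingHom ≫ (Scheme.ΓSpecIso (CommRingCat.of k)).inv ≫ x.appTop := by
    rw [← Scheme.Hom.comp_appTop, hip, Scheme.Hom.comp_appTop, ← Category.assoc, ← Category.assoc,
      Scheme.ΓSpecIso_inv_naturality]
  have h := congr($(e) (DualNumber.eps : DualNumber k))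
  refine h.trans ?_
  change ((Scheme.ΓSpecIso (CommRingCat.of k)).inv ≫ x.appTop).hom (TrivSqZeroExt.fst (DualNumber.eps : DualNumber k)) = 0
  rw [DualNumber.fst_eps, map_zero]

/-- The lift. -/
abbrev lift₀ (q : Xε ⟶ X₀) (E₀ : X₀.Modules) : Xε.Modules := (Scheme.Modules.pullback q).obj E₀

/-- Multiplication by `ε`. -/
def mu (q : Xε ⟶ X₀) (p : Xε ⟶ Spec (CommRingCat.of (DualNumber k))) (E₀ : X₀.Modules) : lift₀ q E₀ ⟶ lift₀ q E₀ := TwSh.scalarEnd (lift₀ q E₀) (epsFun p)

theorem mu_app (U : Xε.Opens) (s : Γ(lift₀ q E₀, U)) :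
    (mu q p E₀).app U s = (Xε.presheaf.map (homOfLE (le_top : U ≤ ⊤)).op).hom (epsFun p) • s := rfl

theorem mu_sq : mu q p E₀ ≫ mu q p E₀ = 0 := by
  refine Scheme.Modules.hom_ext _ _ fun U => ConcreteCategory.hom_ext _ _ fun s => ?_
  change (mu q p E₀).app U ((mu q p E₀).app U s) = 0
  rw [mu_app, mu_app, smul_smul, ← map_mul, epsFun_mul_self, map_zero, zero_smul]

theorem mu_natural (φ : lift₀ q E₀ ⟶ lift₀ q E₀) : mu q p E₀ ≫ φ = φ ≫ mu q p E₀ := by
  refine Scheme.Modules.hom_ext _ _ fun U => ConcreteCategory.hom_ext _ _ fun s => ?_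
  change φ.app U ((mu q p E₀).app U s) = (mu q p E₀).app U (φ.app U s)
  rw [mu_app, mu_app]
  exact QCohLib.app_smul φ U _ s

/-- The unit. -/
def eta (q : Xε ⟶ X₀) (E₀ : X₀.Modules) : E₀ ⟶ (Scheme.Modules.pushforward q).obj (lift₀ q E₀) :=
  (Scheme.Modules.pullbackPushforwardAdjunction q).unit.app E₀

/-- The inclusion of the infinitesimal part. -/
def jε (q : Xε ⟶ X₀) (p : Xε ⟶ Spec (CommRingCat.of (DualNumber k))) (E₀ : X₀.Modules) : E₀ ⟶ (Scheme.Modules.pushforward q).obj (lift₀ q E₀) :=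
  eta q E₀ ≫ (Scheme.Modules.pushforward q).map (mu q p E₀)

/-- The target of the reduction. -/
abbrev redObj (q : Xε ⟶ X₀) (i : X₀ ⟶ Xε) (E₀ : X₀.Modules) : X₀.Modules :=
  (Scheme.Modules.pushforward (i ≫ q)).obj ((Scheme.Modules.pullback i).obj (lift₀ q E₀))

/-- The reduction. -/
def redMap (q : Xε ⟶ X₀) (i : X₀ ⟶ Xε) (E₀ : X₀.Modules) : (Scheme.Modules.pushforward q).obj (lift₀ q E₀) ⟶ redObj q i E₀ :=
  (Scheme.Modules.pushforward q).map ((Scheme.Modules.pullbackPushforwardAdjunction i).unit.app (lift₀ q E₀)) ≫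
    (Scheme.Modules.pushforwardComp i q).hom.app _

theorem redMap_natural (φ : lift₀ q E₀ ⟶ lift₀ q E₀) :
    (Scheme.Modules.pushforward q).map φ ≫ redMap q i E₀ =
      redMap q i E₀ ≫ (Scheme.Modules.pushforward (i ≫ q)).map ((Scheme.Modules.pullback i).map φ) := by
  have h1 : (Scheme.Modules.pullbackPushforwardAdjunction i).unit.app (lift₀ q E₀) ≫
      (Scheme.Modules.pushforward i).map ((Scheme.Modules.pullback i).map φ) =
      φ ≫ (Scheme.Modules.pullbackPushforwardAdjunction i).unit.app (lift₀ q E₀) :=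
    ((Scheme.Modules.pullbackPushforwardAdjunction i).unit.naturality φ).symm
  have h2 := (Scheme.Modules.pushforwardComp i q).hom.naturality ((Scheme.Modules.pullback i).map φ)
  rw [redMap, Category.assoc]
  erw [← h2]
  rw [← Category.assoc, ← Category.assoc]
  congr 1
  erw [← Functor.map_comp, ← Functor.map_comp, h1]

include hip in
theorem pullback_mu : (Scheme.Modules.pullback i).map (mu q p E₀) = 0 := by
  refine ((Scheme.Modules.pullbackPushforwardAdjunction i).homEquiv _ _).injective ?_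
  rw [Adjunction.homEquiv_unit, Adjunction.homEquiv_unit, Functor.map_zero, comp_zero]
  erw [← (Scheme.Modules.pullbackPushforwardAdjunction i).unit.naturality (mu q p E₀)]
  refine Scheme.Modules.hom_ext _ _ fun U => ConcreteCategory.hom_ext _ _ fun s => ?_
  change KFlatLib.puSec i ((mu q p E₀).app U s) = 0
  rw [mu_app, KFlatLib.puSec_smul]
  have h : i.app U ((Xε.presheaf.map (homOfLE (le_top : U ≤ ⊤)).op).hom (epsFun p)) = 0 := by
    refine (congr($(i.naturality (homOfLE (le_top : U ≤ ⊤)).op) (epsFun p))).trans ?_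
    refine (congrArg _ (appTop_epsFun hip)).trans ?_
    exact RingHom.map_zero _
  rw [h, zero_smul]

include hip in
theorem jε_redMap : jε q p E₀ ≫ redMap q i E₀ = 0 := by
  rw [jε, Category.assoc, redMap_natural, pullback_mu hip, Functor.map_zero, comp_zero, comp_zero]

include hiq in
theorem isIso_eta_redMap : IsIso (eta q E₀ ≫ redMap q i E₀) := by
  have key : eta q E₀ ≫ redMap q i E₀ = (Scheme.Modules.pullbackPushforwardAdjunction (i ≫ q)).unit.app E₀ ≫
      (Scheme.Modules.pushforward (i ≫ q)).map ((Scheme.Modules.pullbackComp i q).inv.app E₀) := by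
    refine Scheme.Modules.hom_ext _ _ fun U => ConcreteCategory.hom_ext _ _ fun s => ?_
    exact (CohCmpLib.pullbackComp_inv_puSec i q E₀ s).symm
  have hid : ∀ (g : X₀ ⟶ X₀), g = 𝟙 X₀ → IsIso ((Scheme.Modules.pullbackPushforwardAdjunction g).unit.app E₀) := by
    rintro g rfl
    haveI : (Scheme.Modules.pullback (𝟙 X₀)).Full := Functor.Full.of_iso (Scheme.Modules.pullbackId X₀).symm
    haveI : (Scheme.Modules.pullback (𝟙 X₀)).Faithful := Functor.Faithful.of_iso (Scheme.Modules.pullbackId X₀).symm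
    infer_instance
  haveI := hid _ hiq
  rw [key]
  infer_instance

include hsq hiq hip in
theorem sections_exact [Coh.IsQCoh E₀] {U : X₀.Opens} (hU : IsAffineOpen U) :
    Function.Injective ((jε q p E₀).app U) ∧
      ∀ t : Γ((Scheme.Modules.pushforward q).obj (lift₀ q E₀), U),
        (redMap q i E₀).app U t = 0 → ∃ b, (jε q p E₀).app U b = t := by
  haveI : IsAffineHom q :=
    MorphismProperty.of_isPullback hsq.flip (inferInstanceAs (IsAffineHom (Spec.map _)))
  have hV := hU.preimage q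
  let V := q ⁻¹ᵁ U
  letI : Algebra k Γ(X₀, U) :=
    ((X₀.presheaf.map (homOfLE (le_top : U ≤ ⊤)).op).hom.comp (Coh.toGlobal x)).toAlgebra
  letI : Algebra (DualNumber k) Γ(Xε, V) :=
    ((Xε.presheaf.map (homOfLE (le_top : V ≤ ⊤)).op).hom.comp (Coh.toGlobal p)).toAlgebra
  letI : Algebra Γ(X₀, U) Γ(Xε, V) := (q.appLE U V le_rfl).hom.toAlgebra
  letI : Algebra k Γ(Xε, V) := ((algebraMap Γ(X₀, U) Γ(Xε, V)).comp (algebraMap k Γ(X₀, U))).toAlgebra
  haveI : IsScalarTower k Γ(X₀, U) Γ(Xε, V) := IsScalarTower.of_algebraMap_eq' rfl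
  have hpo := RpushLib.isPushout_affBase hsq hU (U := V) rfl
  haveI : IsScalarTower k (DualNumber k) Γ(Xε, V) :=
    IsScalarTower.of_algebraMap_eq' (congrArg CommRingCat.Hom.hom hpo.w)
  haveI : Algebra.IsPushout k Γ(X₀, U) (DualNumber k) Γ(Xε, V) :=
    CommRingCat.isPushout_iff_isPushout.mp hpo
  letI : Module Γ(X₀, U) Γ(lift₀ q E₀, V) := Module.compHom _ (q.appLE U V le_rfl).hom
  haveI : IsScalarTower Γ(X₀, U) Γ(Xε, V) Γ(lift₀ q E₀, V) := IsScalarTower.of_algebraMap_smul fun _ _ => rfl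
  let η : Γ(E₀, U) →ₗ[Γ(X₀, U)] Γ(lift₀ q E₀, V) :=
    { toFun := KFlatLib.puSecLE q E₀ (le_refl V), map_add' := map_add _,
      map_smul' := fun a m => KFlatLib.puSecLE_smul q E₀ (le_refl V) a m }
  have hη : IsBaseChange Γ(Xε, V) η :=
    KFlatLib.isBaseChange_puSec q E₀ hU hV (le_refl V) (fun _ => rfl) η (fun _ => rfl)
  obtain ⟨hdec, hinj⟩ := decomp (k := k) η hη
  have heq : ∀ m, η m = KFlatLib.puSec q m := fun m => by
    change KFlatLib.puSecLE q E₀ (le_refl V) m = _
    rw [KFlatLib.puSecLE_apply]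
    exact congr($((lift₀ q E₀).presheaf.map_id (op V)) (KFlatLib.puSec q m))
  have hj : ∀ m, (jε q p E₀).app U m = algebraMap (DualNumber k) Γ(Xε, V) DualNumber.eps • η m := fun m => by
    rw [heq]
    rfl
  refine ⟨(injective_iff_map_eq_zero ((jε q p E₀).app U).hom).mpr fun b hb => hinj b ((hj b).symm.trans hb),
    fun t ht => ?_⟩
  obtain ⟨a, b, hab⟩ := hdec (show Γ(lift₀ q E₀, V) from t)
  have ha : (redMap q i E₀).app U ((eta q E₀).app U a) = 0 := by
    have h2 : t = (eta q E₀).app U a + (jε q p E₀).app U b := hab.trans (congr_arg₂ (· + ·) (heq a) (hj b).symm)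
    rw [h2, map_add] at ht
    have h3 : (redMap q i E₀).app U ((jε q p E₀).app U b) = 0 := congr(Scheme.Modules.Hom.app $(jε_redMap (E₀ := E₀) hip) U b)
    rwa [h3, add_zero] at ht
  haveI := isIso_eta_redMap (E₀ := E₀) hiq
  have ha0 : a = 0 := (ConcreteCategory.bijective_of_isIso ((eta q E₀ ≫ redMap q i E₀).app U)).1
    (ha.trans (map_zero _).symm)
  refine ⟨b, (hj b).trans ?_⟩
  rw [hab, ha0, map_zero, zero_add]

include hsq hiq hip in
theorem shortExact [Coh.IsQCoh E₀] :
    Mono (jε q p E₀) ∧ Nonempty (IsLimit (KernelFork.ofι (jε q p E₀) (jε_redMap (E₀ := E₀) hip))) := by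
  haveI : IsAffineHom q :=
    MorphismProperty.of_isPullback hsq.flip (inferInstanceAs (IsAffineHom (Spec.map _)))
  haveI : IsAffineHom (i ≫ q) := by rw [hiq]; infer_instance
  haveI : QuasiCompact (i ≫ q) := inferInstance
  haveI : Coh.IsQCoh (lift₀ q E₀) := KFlatLib.isQCoh_pullback q E₀
  haveI : Coh.IsQCoh ((Scheme.Modules.pushforward q).obj (lift₀ q E₀)) := QCohLib.isQCoh_pushforward q _
  haveI : Coh.IsQCoh ((Scheme.Modules.pullback i).obj (lift₀ q E₀)) := KFlatLib.isQCoh_pullback i _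
  haveI : Coh.IsQCoh (redObj q i E₀) := QCohLib.isQCoh_pushforward (i ≫ q) _
  haveI : Coh.IsQCoh (kernel (redMap q i E₀)) := QCohLib.isQCoh_kernel _
  let l : E₀ ⟶ kernel (redMap q i E₀) := kernel.lift _ (jε q p E₀) (jε_redMap hip)
  haveI : IsIso l := by
    refine QCohLib.isIso_of_bijective_affine l fun U hU => ?_
    obtain ⟨hi', hs⟩ := sections_exact (E₀ := E₀) hsq hiq hip hU
    have hl : ∀ m, (kernel.ι (redMap q i E₀)).app U (l.app U m) = (jε q p E₀).app U m := fun m =>
      congr(Scheme.Modules.Hom.app $(kernel.lift_ι (redMap q i E₀) (jε q p E₀) (jε_redMap hip)) U m)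
    have hκ := QCohLib.app_injective_of_mono (kernel.ι (redMap q i E₀)) U
    refine ⟨fun a a' h => hi' (by rw [← hl, ← hl, h]), fun z => ?_⟩
    obtain ⟨b, hb⟩ := hs ((kernel.ι (redMap q i E₀)).app U z)
      congr(Scheme.Modules.Hom.app $(kernel.condition (redMap q i E₀)) U z)
    exact ⟨b, hκ ((hl b).trans hb)⟩
  have hfac : l ≫ kernel.ι (redMap q i E₀) = jε q p E₀ := kernel.lift_ι _ _ _
  exact ⟨hfac ▸ inferInstance, ⟨IsLimit.ofIsoLimit (kernelIsKernel (redMap q i E₀))
    (Fork.ext (asIso l).symm (by simp [l]))⟩⟩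

include hsq hiq hip in
/-- Infinitesimal automorphisms are endomorphisms. -/
theorem exists_equiv [Coh.IsQCoh E₀] :
    ∃ e : {φ : (Scheme.Modules.pullback q).obj E₀ ≅ (Scheme.Modules.pullback q).obj E₀ //
            (Scheme.Modules.pullback i).map φ.hom = 𝟙 _} ≃ (E₀ ⟶ E₀),
      ∀ φ ψ χ : {φ : (Scheme.Modules.pullback q).obj E₀ ≅ (Scheme.Modules.pullback q).obj E₀ //
            (Scheme.Modules.pullback i).map φ.hom = 𝟙 _},
        φ.1 ≪≫ ψ.1 = χ.1 → e χ = e φ + e ψ := by
  obtain ⟨hmono, ⟨hker⟩⟩ := shortExact (E₀ := E₀) hsq hiq hip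
  haveI := hmono
  haveI := isIso_eta_redMap (E₀ := E₀) hiq
  let P := Scheme.Modules.pushforward q
  let adj := Scheme.Modules.pullbackPushforwardAdjunction q
  let η := eta q E₀
  let j := jε q p E₀
  have hred : ∀ φ : lift₀ q E₀ ⟶ lift₀ q E₀, (Scheme.Modules.pullback i).map φ = 𝟙 _ →
      (η ≫ P.map φ - η) ≫ redMap q i E₀ = 0 := fun φ hφ => by
    rw [Preadditive.sub_comp, Category.assoc, redMap_natural, hφ, CategoryTheory.Functor.map_id, Category.comp_id,
      sub_self]
  have hjψ : ∀ ψ : lift₀ q E₀ ⟶ lift₀ q E₀, (Scheme.Modules.pullback i).map ψ = 𝟙 _ → j ≫ P.map ψ = j := fun ψ hψ => by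
    let f : E₀ ⟶ E₀ := hker.lift (KernelFork.ofι _ (hred ψ hψ))
    have hf : f ≫ j = η ≫ P.map ψ - η := Fork.IsLimit.lift_ι hker
    have h0 : j ≫ P.map (mu q p E₀) = 0 := by
      change (η ≫ P.map _) ≫ P.map _ = 0
      rw [Category.assoc, ← Functor.map_comp, mu_sq, Functor.map_zero, comp_zero]
    calc j ≫ P.map ψ = (η ≫ P.map ψ) ≫ P.map (mu q p E₀) := by
          change (η ≫ P.map _) ≫ P.map ψ = _
          rw [Category.assoc, ← Functor.map_comp, mu_natural, Functor.map_comp, Category.assoc]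
      _ = j := by
          rw [eq_add_of_sub_eq hf.symm, Preadditive.add_comp, Category.assoc, h0, comp_zero, zero_add]
          rfl
  let mk : (E₀ ⟶ E₀) → (lift₀ q E₀ ⟶ lift₀ q E₀) := fun f => (adj.homEquiv _ _).symm (η + f ≫ j)
  have hmk : ∀ f, η ≫ P.map (mk f) = η + f ≫ j := fun f =>
    ((adj.homEquiv_unit _ _ _).symm.trans ((adj.homEquiv _ _).apply_symm_apply _))
  have hinj : ∀ φ ψ : lift₀ q E₀ ⟶ lift₀ q E₀, η ≫ P.map φ = η ≫ P.map ψ → φ = ψ := fun φ ψ h =>
    (adj.homEquiv _ _).injective ((adj.homEquiv_unit _ _ _).trans (h.trans (adj.homEquiv_unit _ _ _).symm))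
  have hi : ∀ f, (Scheme.Modules.pullback i).map (mk f) = 𝟙 _ := fun f => by
    haveI : IsIso (η ≫ redMap q i E₀) := ‹_›
    have h1 : η ≫ redMap q i E₀ ≫ (Scheme.Modules.pushforward (i ≫ q)).map ((Scheme.Modules.pullback i).map (mk f)) =
        η ≫ redMap q i E₀ := by
      rw [← redMap_natural, ← Category.assoc, hmk, Preadditive.add_comp, Category.assoc, jε_redMap hip, comp_zero,
        add_zero]
    rw [← Category.assoc] at h1
    conv_rhs at h1 => rw [← Category.comp_id (η ≫ redMap q i E₀)]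
    rw [cancel_epi, ← CategoryTheory.Functor.map_id] at h1
    haveI : (Scheme.Modules.pushforward (i ≫ q)).Faithful := by
      rw [hiq]
      exact Functor.Faithful.of_iso (Scheme.Modules.pushforwardId X₀).symm
    exact (Scheme.Modules.pushforward (i ≫ q)).map_injective h1
  have hmul : ∀ f g, mk f ≫ mk g = mk (f + g) := fun f g => hinj _ _ (by
    rw [Functor.map_comp, ← Category.assoc, hmk, Preadditive.add_comp, hmk, Category.assoc, hjψ _ (hi g), hmk,
      Preadditive.add_comp]
    abel)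
  have hone : mk 0 = 𝟙 _ := hinj _ _ (by
    rw [hmk, zero_comp, add_zero, CategoryTheory.Functor.map_id, Category.comp_id])
  have hmkinj : ∀ f g, mk f = mk g → f = g := fun f g h => by
    have h' := congrArg (fun z => η ≫ P.map z) h
    simp only [hmk, add_right_inj] at h'
    exact (cancel_mono j).mp h'
  let e : {φ : (Scheme.Modules.pullback q).obj E₀ ≅ (Scheme.Modules.pullback q).obj E₀ //
            (Scheme.Modules.pullback i).map φ.hom = 𝟙 _} ≃ (E₀ ⟶ E₀) :=
    { toFun := fun φ => hker.lift (KernelFork.ofι _ (hred φ.1.hom φ.2))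
      invFun := fun f => ⟨⟨mk f, mk (-f), by rw [hmul, add_neg_cancel, hone], by rw [hmul, neg_add_cancel, hone]⟩, hi f⟩
      left_inv := fun φ => Subtype.ext (Iso.ext (hinj _ _ (by
        rw [hmk]
        refine (congrArg (η + ·) (Fork.IsLimit.lift_ι hker)).trans ?_
        rw [Fork.ι_ofι]
        abel)))
      right_inv := fun f => (cancel_mono j).mp ((Fork.IsLimit.lift_ι hker).trans (by
        rw [Fork.ι_ofι]
        exact (congrArg (· - η) (hmk f)).trans (add_sub_cancel_left _ _))) }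
  refine ⟨e, fun φ ψ χ h => hmkinj _ _ ?_⟩
  rw [← hmul]
  have hle : ∀ φ, mk (e φ) = φ.1.hom := fun φ => congrArg (fun z => z.1.hom) (e.left_inv φ)
  rw [hle, hle, hle, ← h]
  rfl

end InfAutModLib

end
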